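import Groth.Agent.CompactLib.Basic
import Groth.Agent.KFlatLib.DerivedCoprod
import Mathlib.Algebra.Homology.DerivedCategory.ShortExact
import Mathlib.Algebra.Homology.HomologicalComplexLimits
import Mathlib.Algebra.Homology.SingleHomology

/-!
# Compact objects of a derived category and maps of complexes
-/

set_option autoImplicit false
set_option linter.unusedSectionVars false
set_option linter.style.haveILetI false

universe v u

open CategoryTheory CategoryTheory.Limits HomologicalComplex

namespace CompactRetractLib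

variable {A : Type u} [Category.{v} A] [Abelian A] [IsGrothendieckAbelian.{v} A]
  [HasDerivedCategory.{v} A] [HasCoproducts.{v} (DerivedCategory A)]
  {K : DerivedCategory A}

/-- A map from a compact object into a sum of complexes lands in finitely many of them. -/
theorem exists_cut (hK : CohDer.IsCompactObject K) {T : Type v} (P : T → CochainComplex A ℤ)
    (y : K ⟶ DerivedCategory.Q.obj (∐ P)) :
    ∃ S : Finset T, y ≫ DerivedCategory.Q.map (CompactLib.cut P S) = y := by
  classical
  let P' := fun t => DerivedCategory.Q.obj (P t)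
  let c : ∐ P' ⟶ DerivedCategory.Q.obj (∐ P) := Sigma.desc fun t => DerivedCategory.Q.map (Sigma.ι P t)
  let e : ∐ P' ≅ DerivedCategory.Q.obj (∐ P) := (coproductIsCoproduct P').coconePointUniqueUpToIso (KFlatLib.isColimit_Q_sigma P).some
  have he : e.hom = c := Sigma.hom_ext _ _ fun t =>
    (IsColimit.comp_coconePointUniqueUpToIso_hom _ _ (Discrete.mk t)).trans (Sigma.ι_desc (f := P') (fun t => DerivedCategory.Q.map (Sigma.ι P t)) t).symm
  obtain ⟨S, hS⟩ := CompactLib.exists_cut_eq (CompactLib.fac_of_compact hK T P' (y ≫ e.inv))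
  refine ⟨S, ?_⟩
  have hc : CompactLib.cut P' S ≫ c = c ≫ DerivedCategory.Q.map (CompactLib.cut P S) :=
    Sigma.hom_ext _ _ fun t => by
      rw [← Category.assoc, CompactLib.ι_cut, ← Category.assoc, Sigma.ι_desc, ← Functor.map_comp,
        CompactLib.ι_cut]
      split_ifs with h
      · exact Sigma.ι_desc _ t
      · rw [zero_comp, Functor.map_zero]
  have hy : (y ≫ e.inv) ≫ c = y := by rw [← he, Category.assoc, e.inv_hom_id, Category.comp_id]
  calc y ≫ DerivedCategory.Q.map (CompactLib.cut P S)
      = ((y ≫ e.inv) ≫ c) ≫ DerivedCategory.Q.map (CompactLib.cut P S) := by rw [hy]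
    _ = ((y ≫ e.inv) ≫ CompactLib.cut P' S) ≫ c := by
      simp only [Category.assoc]
      rw [hc]
    _ = y := by rw [hS, hy]

/-- A morphism killed by a degreewise epimorphism of complexes factors through its kernel. -/
theorem exists_lift_kernel {L M : CochainComplex A ℤ} (π : L ⟶ M) [Epi π]
    (x : K ⟶ DerivedCategory.Q.obj L) (hx : x ≫ DerivedCategory.Q.map π = 0) :
    ∃ x' : K ⟶ DerivedCategory.Q.obj (kernel π), x' ≫ DerivedCategory.Q.map (kernel.ι π) = x := by
  let S := ShortComplex.mk (kernel.ι π) π (kernel.condition π)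
  have hS : S.ShortExact :=
    { exact := ShortComplex.exact_of_f_is_kernel S (kernelIsKernel π)
      mono_f := inferInstanceAs (Mono (kernel.ι π))
      epi_g := ‹Epi π› }
  obtain ⟨x', hx'⟩ := Pretriangulated.Triangle.coyoneda_exact₂ _
    (DerivedCategory.triangleOfSES_distinguished hS) x hx
  exact ⟨x', hx'.symm⟩

/-- The kernel of a chain map in a given degree. -/
noncomputable def kernelXIso {L M : CochainComplex A ℤ} (π : L ⟶ M) (i : ℤ) :
    (kernel π).X i ≅ kernel (π.f i) :=
  PreservesKernel.iso (eval A (ComplexShape.up ℤ) i) π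

theorem isZero_kernel_X {L M : CochainComplex A ℤ} (π : L ⟶ M) (i : ℤ) [IsIso (π.f i)] :
    IsZero ((kernel π).X i) :=
  (isZero_kernel_of_mono (π.f i)).of_iso (kernelXIso π i)

theorem nonempty_kernel_X_iso {L M : CochainComplex A ℤ} (π : L ⟶ M) (i : ℤ) (h : IsZero (M.X i)) :
    Nonempty ((kernel π).X i ≅ L.X i) :=
  ⟨kernelXIso π i ≪≫ kernelIsoOfEq (h.eq_of_tgt (π.f i) 0) ≪≫ kernelZeroIsoSource⟩

omit [IsGrothendieckAbelian.{v} A] [HasCoproducts.{v} (DerivedCategory A)] in
theorem homologyMap_eq_of_Q {L M : CochainComplex A ℤ} {φ φ' : L ⟶ M}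
    (h : DerivedCategory.Q.map φ = DerivedCategory.Q.map φ') (n : ℤ) :
    homologyMap φ n = homologyMap φ' n := by
  refine (cancel_epi ((DerivedCategory.homologyFunctorFactors A n).hom.app L)).1 ?_
  have e1 := (DerivedCategory.homologyFunctorFactors A n).hom.naturality φ
  have e2 := (DerivedCategory.homologyFunctorFactors A n).hom.naturality φ'
  exact (e1.symm.trans ((congrArg (fun f => (DerivedCategory.homologyFunctor A n).map f ≫ _) h).trans e2))

/-- The cohomology of a compact object is bounded. -/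
theorem exists_bounded (hK : CohDer.IsCompactObject K) (C : CochainComplex A ℤ)
    (e : DerivedCategory.Q.obj C ≅ K) :
    ∃ a b : ℤ, a ≤ b ∧ ∀ n : ℤ, n < a ∨ b < n → C.ExactAt n := by
  classical
  let I : ℤ → A := fun n => Injective.under (C.homology n)
  let Z : CochainComplex A ℤ :=
    { X := I
      d := fun _ _ => 0 }
  let ψ : ∀ n, C.opcycles n ⟶ I n := fun n => Injective.factorThru (Injective.ι (C.homology n)) (C.homologyι n)
  have hψ : ∀ n, C.homologyι n ≫ ψ n = Injective.ι (C.homology n) := fun n => Injective.comp_factorThru _ _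
  let φ : C ⟶ Z :=
    { f := fun n => C.pOpcycles n ≫ ψ n
      comm' := fun i j _ => by
        show (C.pOpcycles i ≫ ψ i) ≫ 0 = C.d i j ≫ C.pOpcycles j ≫ ψ j
        simp }
  let P : ULift.{v} ℤ → CochainComplex A ℤ := fun n =>
    (single A (ComplexShape.up ℤ) n.down).obj (I n.down)
  let u : ∐ P ⟶ Z := Sigma.desc fun n => mkHomFromSingle (K := Z) (𝟙 (I n.down)) (fun _ _ => comp_zero)
  let w : Z ⟶ ∐ P :=
    { f := fun n => (singleObjXSelf (ComplexShape.up ℤ) n (I n)).inv ≫ (Sigma.ι P ⟨n⟩).f n
      comm' := fun i j _ => by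
        show ((singleObjXSelf (ComplexShape.up ℤ) i (I i)).inv ≫ _) ≫ _ = 0 ≫ _
        rw [zero_comp, Category.assoc, (Sigma.ι P ⟨i⟩).comm i j]
        show _ ≫ ((single A (ComplexShape.up ℤ) i).obj (I i)).d i j ≫ _ = 0
        simp }
  have hwu : w ≫ u = 𝟙 Z := by
    ext n
    show ((singleObjXSelf (ComplexShape.up ℤ) n (I n)).inv ≫ (Sigma.ι P ⟨n⟩).f n) ≫ u.f n = 𝟙 (I n)
    rw [Category.assoc, ← comp_f, Sigma.ι_desc, mkHomFromSingle_f, Category.comp_id, Iso.inv_hom_id]
  obtain ⟨S, hS⟩ := exists_cut hK P (e.inv ≫ DerivedCategory.Q.map (φ ≫ w))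
  let φ' : C ⟶ Z := φ ≫ w ≫ CompactLib.cut P S ≫ u
  have hQ : DerivedCategory.Q.map φ = DerivedCategory.Q.map φ' := by
    rw [← cancel_epi e.inv]
    calc e.inv ≫ DerivedCategory.Q.map φ
        = (e.inv ≫ DerivedCategory.Q.map (φ ≫ w)) ≫ DerivedCategory.Q.map u := by
          rw [Category.assoc, ← Functor.map_comp, Category.assoc, hwu, Category.comp_id]
      _ = _ := by
          rw [← hS]
          simp only [φ', Functor.map_comp, Category.assoc]
  have hz : ∀ n, (⟨n⟩ : ULift.{v} ℤ) ∉ S → C.ExactAt n := fun n hn => by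
    have h0 : φ'.f n = 0 := by
      show φ.f n ≫ ((singleObjXSelf (ComplexShape.up ℤ) n (I n)).inv ≫ (Sigma.ι P ⟨n⟩).f n) ≫
        (CompactLib.cut P S).f n ≫ u.f n = 0
      have hc : (Sigma.ι P ⟨n⟩).f n ≫ (CompactLib.cut P S).f n = 0 := by
        rw [← comp_f, CompactLib.ι_cut, if_neg hn, zero_f]
      refine (congrArg (φ.f n ≫ ·) ?_).trans comp_zero
      exact (Category.assoc _ _ _).trans ((congrArg (_ ≫ ·) ((Category.assoc _ _ _).symm.trans
        ((congrArg (· ≫ u.f n) hc).trans zero_comp))).trans comp_zero)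
    have h1 : homologyMap φ' n = 0 := by
      rw [← cancel_epi (C.homologyπ n), homologyπ_naturality, comp_zero]
      have : cyclesMap φ' n = 0 := by
        rw [← cancel_mono (Z.iCycles n), cyclesMap_i, h0, comp_zero, zero_comp]
      rw [this, zero_comp]
    have h2 : homologyMap φ n = 0 := (homologyMap_eq_of_Q hQ n).trans h1
    have h3 : opcyclesMap φ n ≫ Z.descOpcycles (𝟙 (I n)) (n - 1) (by simp) (by exact zero_comp) = ψ n := by
      rw [← cancel_epi (C.pOpcycles n), ← Category.assoc, p_opcyclesMap, Category.assoc, p_descOpcycles,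
        Category.comp_id]
    have h4 : Injective.ι (C.homology n) = 0 := by
      rw [← hψ, ← h3, ← Category.assoc, ← homologyι_naturality, h2, zero_comp, zero_comp]
    rw [C.exactAt_iff_isZero_homology]
    exact (IsZero.iff_id_eq_zero _).2 ((cancel_mono (Injective.ι (C.homology n))).1
      ((Category.id_comp _).trans (h4.trans zero_comp.symm)))
  let S' : Finset ℤ := insert 0 (S.image ULift.down)
  refine ⟨S'.min' (Finset.insert_nonempty _ _), S'.max' (Finset.insert_nonempty _ _),
    Finset.min'_le _ _ (Finset.max'_mem _ _), fun n hn => hz n fun h => ?_⟩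
  have hm : n ∈ S' := Finset.mem_insert_of_mem (Finset.mem_image_of_mem ULift.down h)
  have := Finset.min'_le _ _ hm
  have := Finset.le_max' _ _ hm
  omega

end CompactRetractLib
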