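import Groth.Agent.CompactRetractLib.Trunc
import Groth.Agent.FreeResLib.Killing
import Mathlib.Algebra.Homology.Embedding.TruncLEHomology
import Mathlib.CategoryTheory.Abelian.GrothendieckCategory.Coseparator

/-!
# Compact objects are retracts of bounded complexes of finite sums of generators
-/

set_option autoImplicit false
set_option linter.unusedSectionVars false
set_option linter.style.haveILetI false

universe v u

open CategoryTheory CategoryTheory.Limits HomologicalComplex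
open scoped ZeroObject
open Opposite (op)
open Groth.Agent.FreeResLib

namespace CompactRetractLib

variable {A : Type u} [Category.{v} A] [Abelian A] [IsGrothendieckAbelian.{v} A]
  [HasDerivedCategory.{v} A] [HasCoproducts.{v} (DerivedCategory A)] [HasFiniteBiproducts A]
  {K : DerivedCategory A}

/-- A finite sum of members of `S`. -/
def IsFinSum (S : Set A) (X : A) : Prop :=
  ∃ (n : ℕ) (E : Fin n → A), (∀ j, E j ∈ S) ∧ Nonempty (X ≅ ⨁ E)

/-- An arbitrary sum of members of `S`. -/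
def IsBigSum (S : Set A) (X : A) : Prop :=
  ∃ (T : Type v) (E : T → A), (∀ t, E t ∈ S) ∧ Nonempty (X ≅ ∐ E)

theorem isFinSum_of_isZero (S : Set A) {X : A} (h : IsZero X) : IsFinSum S X :=
  ⟨0, Fin.elim0, fun j => j.elim0,
    ⟨h.iso ((IsZero.iff_id_eq_zero _).2 (biproduct.hom_ext' _ _ fun j => j.elim0))⟩⟩

theorem isBigSum_of_isZero (S : Set A) {X : A} (h : IsZero X) : IsBigSum S X :=
  ⟨PEmpty, PEmpty.elim, fun t => t.elim,
    ⟨h.iso ((IsZero.iff_id_eq_zero _).2 (Sigma.hom_ext _ _ fun t => t.elim))⟩⟩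

/-- Maps out of an object whose `Hom` commutes with sums land in finitely many summands. -/
theorem exists_cut_hom (P : A) {T : Type v} (Y : T → A)
    [PreservesColimitsOfShape (Discrete T) (preadditiveCoyoneda.obj (op P))] (g : P ⟶ ∐ Y) :
    ∃ S : Finset T, g ≫ CompactLib.cut Y S = g := by
  refine CompactLib.exists_cut_eq ?_
  let N := CompactLib.finSub Y P
  have key : AddCommGrpCat.ofHom (QuotientAddGroup.mk' N) =
      (0 : AddCommGrpCat.of (P ⟶ ∐ Y) ⟶ AddCommGrpCat.of (_ ⧸ N)) := by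
    refine (isColimitOfPreserves (preadditiveCoyoneda.obj (op P)) (coproductIsCoproduct Y)).hom_ext fun i => ?_
    ext (x : P ⟶ Y i.as)
    exact (QuotientAddGroup.eq_zero_iff _).2 (AddSubgroup.subset_closure ⟨i.as, x, rfl⟩)
  exact (QuotientAddGroup.eq_zero_iff (N := N) g).1 (congr($key g))

variable {S : Set A}
  (h2 : ∀ E ∈ S, ∀ ι : Type v, PreservesColimitsOfShape (Discrete ι) (preadditiveCoyoneda.obj (op E)))
  (hK : CohDer.IsCompactObject K)

/-- A stage of the trimming procedure. -/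
def Stage (K : DerivedCategory A) (S : Set A) (a b j : ℤ) : Prop :=
  ∃ (L : CochainComplex A ℤ), (∀ i, i < a ∨ b < i → IsZero (L.X i)) ∧
    (∀ i, i < j → IsFinSum S (L.X i)) ∧ (∀ i, j ≤ i → IsBigSum S (L.X i)) ∧
    Nonempty (Retract K (DerivedCategory.Q.obj L))

include h2 hK in
theorem stage_succ {a b j : ℤ} (h : Stage K S a b j) : Stage K S a b (j + 1) := by
  classical
  obtain ⟨L, hz, hfin, hbig, ⟨R⟩⟩ := h
  obtain ⟨T, E, hE, ⟨e⟩⟩ := hbig j le_rfl
  obtain ⟨n, F, hF, ⟨e'⟩⟩ := hfin (j - 1) (by omega)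
  have hg : ∀ k, ∃ T' : Finset T, (biproduct.ι F k ≫ e'.inv ≫ L.d (j - 1) j ≫ e.hom) ≫ CompactLib.cut E T' =
      biproduct.ι F k ≫ e'.inv ≫ L.d (j - 1) j ≫ e.hom := fun k =>
    haveI := h2 _ (hF k) T
    exists_cut_hom _ E _
  choose Tk hTk using hg
  let T1 := Finset.univ.biUnion Tk
  have hT1 : (L.d (j - 1) j ≫ e.hom) ≫ CompactLib.cut E T1 = L.d (j - 1) j ≫ e.hom := by
    rw [← cancel_epi e'.inv]
    refine biproduct.hom_ext' _ _ fun k => ?_
    have hk := hTk k
    have hsub : Tk k ⊆ T1 := Finset.subset_biUnion_of_mem Tk (Finset.mem_univ k)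
    simp only [← Category.assoc] at hk ⊢
    conv_lhs => rw [← hk]
    conv_rhs => rw [← hk]
    rw [Category.assoc _ (CompactLib.cut E (Tk k)), CompactLib.cut_cut E hsub]
  let π₀ : L ⟶ (single A (ComplexShape.up ℤ) j).obj (∐ E) :=
    mkHomToSingle (e.hom ≫ (𝟙 _ - CompactLib.cut E T1)) (fun i (hi : i + 1 = j) => by
      obtain rfl : i = j - 1 := by omega
      rw [← Category.assoc, Preadditive.comp_sub, Category.comp_id, hT1, sub_self])
  let P : T → CochainComplex A ℤ := fun t => (single A (ComplexShape.up ℤ) j).obj (E t)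
  let u : ∐ P ⟶ (single A (ComplexShape.up ℤ) j).obj (∐ E) :=
    Sigma.desc fun t => (single A (ComplexShape.up ℤ) j).map (Sigma.ι E t)
  let v : (single A (ComplexShape.up ℤ) j).obj (∐ E) ⟶ ∐ P :=
    mkHomFromSingle (Sigma.desc fun t => (singleObjXSelf (ComplexShape.up ℤ) j (E t)).inv ≫ (Sigma.ι P t).f j)
      (fun i hi => Sigma.hom_ext _ _ fun t => by
        rw [← Category.assoc, Sigma.ι_desc, Category.assoc, (Sigma.ι P t).comm j i, comp_zero,
          show (P t).d j i = 0 from single_obj_d _ _ _ _ _, zero_comp, comp_zero])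
  have hvu : v ≫ u = 𝟙 _ := by
    apply from_single_hom_ext
    rw [comp_f, mkHomFromSingle_f, Category.assoc, id_f,
      ← cancel_epi (singleObjXSelf (ComplexShape.up ℤ) j (∐ E)).inv, Iso.inv_hom_id_assoc]
    refine Sigma.hom_ext _ _ fun t => ?_
    rw [← Category.assoc, Sigma.ι_desc, Category.assoc, ← comp_f, Sigma.ι_desc, single_map_f_self,
      Iso.inv_hom_id_assoc, Category.comp_id]
  obtain ⟨T2, hT2⟩ := exists_cut hK P ((R.i ≫ DerivedCategory.Q.map π₀) ≫ DerivedCategory.Q.map v)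
  let T' := T1 ∪ T2
  let E₀ : {t : T // t ∉ T'} → A := fun t => E t.1
  let q : ∐ E ⟶ ∐ E₀ := Sigma.desc fun t => if h : t ∈ T' then 0 else Sigma.ι E₀ ⟨t, h⟩
  let q' : ∐ E₀ ⟶ ∐ E := Sigma.desc fun t => Sigma.ι E t.1
  have hq' : q' ≫ q = 𝟙 _ := Sigma.hom_ext _ _ fun t => by simp [q, q', t.2, E₀]
  haveI : IsSplitEpi q := ⟨⟨⟨q', hq'⟩⟩⟩
  have hcq : ∀ T'' : Finset T, T'' ⊆ T' → CompactLib.cut E T'' ≫ q = 0 := fun T'' hT => by
    refine Sigma.hom_ext _ _ fun t => ?_
    rw [← Category.assoc, CompactLib.ι_cut, comp_zero]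
    split_ifs with h
    · exact (Sigma.ι_desc _ t).trans (dif_pos (hT h))
    · exact zero_comp
  let π : L ⟶ (single A (ComplexShape.up ℤ) j).obj (∐ E₀) := π₀ ≫ (single A (ComplexShape.up ℤ) j).map q
  have hπj : π.f j = e.hom ≫ q ≫ (singleObjXSelf (ComplexShape.up ℤ) j (∐ E₀)).inv := by
    rw [comp_f, mkHomToSingle_f, single_map_f_self]
    simp [Preadditive.sub_comp_assoc, reassoc_of% (hcq T1 Finset.subset_union_left)]
  haveI : Epi π := by
    haveI : ∀ i, Epi (π.f i) := fun i => by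
      by_cases hi : i = j
      · subst hi; rw [hπj]; infer_instance
      · exact ⟨fun _ _ _ => (isZero_single_obj_X (ComplexShape.up ℤ) j _ i hi).eq_of_src _ _⟩
    exact HomologicalComplex.epi_of_epi_f π this
  have hx : R.i ≫ DerivedCategory.Q.map π = 0 := by
    have h0 : CompactLib.cut P T2 ≫ u ≫ (single A (ComplexShape.up ℤ) j).map q = 0 := by
      refine Sigma.hom_ext _ _ fun t => ?_
      rw [← Category.assoc, CompactLib.ι_cut, comp_zero]
      split_ifs with h
      · rw [← Category.assoc, Sigma.ι_desc, ← Functor.map_comp, Sigma.ι_desc,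
          dif_pos (Finset.mem_union_right _ h), Functor.map_zero]
      · exact zero_comp
    calc R.i ≫ DerivedCategory.Q.map π
        = ((R.i ≫ DerivedCategory.Q.map π₀) ≫ DerivedCategory.Q.map v) ≫
            DerivedCategory.Q.map (u ≫ (single A (ComplexShape.up ℤ) j).map q) := by
          simp only [π, Category.assoc, ← Functor.map_comp, reassoc_of% hvu]
      _ = 0 := by
          rw [← hT2, Category.assoc, ← Functor.map_comp, h0, Functor.map_zero, comp_zero]
  obtain ⟨x', hx'⟩ := exists_lift_kernel π R.i hx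
  refine ⟨kernel π, fun i hi => ?_, fun i hi => ?_, fun i hi => ?_,
    ⟨⟨x', DerivedCategory.Q.map (kernel.ι π) ≫ R.r, by rw [reassoc_of% hx', R.retract]⟩⟩⟩
  · haveI : Mono ((kernel.ι π).f i) := inferInstanceAs (Mono ((eval A (ComplexShape.up ℤ) i).map (kernel.ι π)))
    exact IsZero.of_mono ((kernel.ι π).f i) (hz i hi)
  · rcases lt_or_eq_of_le (show i ≤ j by omega) with hlt | rfl
    · obtain ⟨m, G, hG, ⟨eG⟩⟩ := hfin i hlt
      obtain ⟨k⟩ := nonempty_kernel_X_iso π i (isZero_single_obj_X _ _ _ i hlt.ne)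
      exact ⟨m, G, hG, ⟨k ≪≫ eG⟩⟩
    · let σ := T'.equivFin
      let G : Fin T'.card → A := fun k => E (σ.symm k).1
      let ι' : ⨁ G ⟶ ∐ E := biproduct.desc fun k => Sigma.ι E (σ.symm k).1
      let w : ∐ E ⟶ ⨁ G := Sigma.desc fun t =>
        if h : t ∈ T' then eqToHom (congrArg E (by simp : t = ((σ.symm (σ ⟨t, h⟩)).1))) ≫ biproduct.ι G (σ ⟨t, h⟩)
        else 0
      have hwι : w ≫ ι' = CompactLib.cut E T' := Sigma.hom_ext _ _ fun t => by
        rw [← Category.assoc, Sigma.ι_desc, CompactLib.ι_cut]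
        by_cases h : t ∈ T'
        · rw [dif_pos h, if_pos h, Category.assoc, biproduct.ι_desc]
          exact Sigma.eqToHom_comp_ι _ (by simp)
        · rw [dif_neg h, if_neg h, zero_comp]
      have hιq : ι' ≫ q = 0 := biproduct.hom_ext' _ _ fun k => by
        rw [← Category.assoc, biproduct.ι_desc, comp_zero]
        exact (Sigma.ι_desc _ _).trans (dif_pos (σ.symm k).2)
      have hιw : ι' ≫ w = 𝟙 _ := biproduct.hom_ext' _ _ fun k => by
        rw [← Category.assoc, biproduct.ι_desc, Category.comp_id, Sigma.ι_desc, dif_pos (σ.symm k).2]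
        exact biproduct.eqToHom_comp_ι G (by simp)
      have hqq : 𝟙 _ - CompactLib.cut E T' = q ≫ q' := Sigma.hom_ext _ _ fun t => by
        rw [Preadditive.comp_sub, CompactLib.ι_cut, Category.comp_id, ← Category.assoc, Sigma.ι_desc]
        by_cases h : t ∈ T'
        · rw [if_pos h, dif_pos h, zero_comp, sub_self]
        · rw [if_neg h, dif_neg h, sub_zero]
          exact (Sigma.ι_desc (f := E₀) (fun s => Sigma.ι E s.1) ⟨t, h⟩).symm
      have hker : IsLimit (KernelFork.ofι ι' hιq) := KernelFork.IsLimit.ofι _ _ (fun g _ => g ≫ w)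
        (fun g hg => by
          have := congrArg (g ≫ ·) hqq
          simp only [Preadditive.comp_sub, Category.comp_id, ← Category.assoc, hg, zero_comp, sub_eq_zero] at this
          rw [Category.assoc, hwι]
          exact this.symm)
        (fun g _ m hm => by rw [← hm, Category.assoc, hιw, Category.comp_id])
      exact ⟨_, G, fun k => hE _, ⟨kernelXIso π i ≪≫
        kernel.mapIso _ q e (singleObjXSelf (ComplexShape.up ℤ) i (∐ E₀)) (by rw [hπj]; simp) ≪≫
        (kernelIsKernel q).conePointUniqueUpToIso hker⟩⟩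
  · obtain ⟨U, G, hG, ⟨eG⟩⟩ := hbig i (by omega)
    obtain ⟨k⟩ := nonempty_kernel_X_iso π i (isZero_single_obj_X _ _ _ i (by omega))
    exact ⟨U, G, hG, ⟨k ≪≫ eG⟩⟩

include h2 hK in
/-- A compact object is a retract of a bounded complex of finite sums. -/
theorem exists_retract
    (h1 : ∀ X : A, ∃ (ι : Type v) (E : ι → A) (π : ∐ E ⟶ X), (∀ i, E i ∈ S) ∧ Epi π) :
    ∃ (L : CochainComplex A ℤ) (a b : ℤ),
      (∀ i : ℤ, i < a ∨ b < i → IsZero (L.X i)) ∧
      (∀ i : ℤ, IsFinSum S (L.X i)) ∧ Nonempty (Retract K (DerivedCategory.Q.obj L)) := by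
  classical
  haveI := hasColimitsOfSizeShrink.{0, 0, v, v} A
  haveI : HasFilteredColimitsOfSize.{0, 0} A := ⟨fun _ _ _ => inferInstance⟩
  haveI := AB5OfSize_shrink.{0, 0, v, v} A
  obtain ⟨I, E, p, hE, hp⟩ := h1 (separator A)
  let 𝒞 : Cov A :=
    { S := I
      obj := E
      T := fun M => {_t : (separator A ⟶ M) × I // ¬ IsZero M}
      idx := fun _ t => t.1.2
      π := fun _ t => Sigma.ι E t.1.2 ≫ p ≫ t.1.1
      empty := fun M hM => ⟨fun t => t.2 hM⟩
      epi := fun M => by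
        by_cases hM : IsZero M
        · exact ⟨fun g h _ => hM.eq_of_src g h⟩
        refine ⟨fun {Z} g h eq => (isSeparator_separator A).def g h fun a => ?_⟩
        rw [← cancel_epi p]
        refine Sigma.hom_ext _ _ fun i => ?_
        have := congrArg (fun z => Sigma.ι (fun t : {_t : (separator A ⟶ M) × I // ¬ IsZero M} => E t.1.2)
          ⟨(a, i), hM⟩ ≫ z) eq
        simpa using this }
  let C₀ := DerivedCategory.Q.objPreimage K
  let e₀ := DerivedCategory.Q.objObjPreimageIso K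
  obtain ⟨a₀, b, _, hb⟩ := exists_bounded hK C₀ e₀
  haveI : C₀.IsLE b := (C₀.isLE_iff b).2 fun i hi => hb i (Or.inr hi)
  let C := C₀.truncLE b
  haveI : (0 : CochainComplex A ℤ).IsStrictlyLE b :=
    (CochainComplex.isStrictlyLE_iff _ _).2 fun i _ =>
      (eval A (ComplexShape.up ℤ) i).map_isZero (isZero_zero _)
  let f : (0 : CochainComplex A ℤ) ⟶ C := 0
  haveI : QuasiIso (midπ 𝒞 f) := quasiIso_midπ 𝒞 f
  haveI := isStrictlyLE_mid 𝒞 f b
  let P := mid 𝒞 f
  let g := midπ 𝒞 f ≫ C₀.ιTruncLE b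
  let eP : K ≅ DerivedCategory.Q.obj P := e₀.symm ≪≫ (asIso (DerivedCategory.Q.map g)).symm
  obtain ⟨m, x, hx⟩ := exists_trunc hK P eP.hom
  have hsum : ∀ i, IsBigSum S (P.X i) := fun i => by
    obtain ⟨Q, e, ⟨T, idx, ⟨eQ⟩⟩, -⟩ := exists_splitting 𝒞 f i
    have h0 : IsZero ((0 : CochainComplex A ℤ).X i) := (eval A (ComplexShape.up ℤ) i).map_isZero (isZero_zero _)
    refine ⟨T, fun t => E (idx t), fun t => hE _, ⟨e ≪≫ ?_ ≪≫ eQ⟩⟩
    exact { hom := biprod.snd, inv := biprod.inr, hom_inv_id := biprod.hom_ext' _ _ (h0.eq_of_src _ _) (by simp) }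
  let L := Brutal.trunc P m
  have start : Stage K S m (b + 1) m := by
    refine ⟨L, fun i hi => ?_, fun i hi => isFinSum_of_isZero S (Brutal.isZero_X P m hi), fun i hi => ?_,
      ⟨⟨x, DerivedCategory.Q.map (Brutal.ι P m) ≫ eP.inv, by rw [reassoc_of% hx, eP.hom_inv_id]⟩⟩⟩
    · rcases hi with hi | hi
      · exact Brutal.isZero_X P m hi
      · haveI : Mono ((Brutal.ι P m).f i) := inferInstanceAs (Mono (kernel.ι (Brutal.chi P m i)))
        exact IsZero.of_mono ((Brutal.ι P m).f i) (P.isZero_of_isStrictlyLE (b + 1) i hi)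
    · haveI := Brutal.isIso_ι_f P m hi
      obtain ⟨T, G, hG, ⟨eG⟩⟩ := hsum i
      exact ⟨T, G, hG, ⟨asIso ((Brutal.ι P m).f i) ≪≫ eG⟩⟩
  have hstage : ∀ k : ℕ, Stage K S m (b + 1) (m + k) := fun k => by
    induction k with
    | zero => simpa using start
    | succ k ih =>
      have := stage_succ h2 hK ih
      rwa [show m + (k + 1 : ℕ) = m + k + 1 by omega]
  obtain ⟨L', hz, hfin, -, hR⟩ := hstage (b + 2 - m).toNat
  refine ⟨L', m, b + 1, hz, fun i => ?_, hR⟩
  by_cases hi : i < m + (b + 2 - m).toNat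
  · exact hfin i hi
  · exact isFinSum_of_isZero S (hz i (Or.inr (by omega)))

end CompactRetractLib
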