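import Groth.Agent.CompactRetractLib.Basic

/-!
# Compact objects are retracts of brutal truncations
-/

set_option autoImplicit false
set_option linter.unusedSectionVars false
set_option linter.style.haveILetI false

universe v u

open CategoryTheory CategoryTheory.Limits HomologicalComplex

namespace CompactRetractLib

namespace Brutal

variable {C : Type u} [Category.{v} C] [Abelian C] (E : CochainComplex C ℤ) (m : ℤ)

/-- The endomorphism whose kernel is the truncated term. -/
noncomputable def chi (i : ℤ) : E.X i ⟶ E.X i := if m ≤ i then 0 else 𝟙 _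

theorem chi_of_le {i : ℤ} (h : m ≤ i) : chi E m i = 0 := if_pos h

theorem kernel_ι_of_lt {i : ℤ} (h : i < m) : kernel.ι (chi E m i) = 0 := by
  have := kernel.condition (chi E m i)
  simpa only [chi, if_neg (not_le.2 h), Category.comp_id] using this

theorem cond (i j : ℤ) (hij : i + 1 = j) :
    (kernel.ι (chi E m i) ≫ E.d i j) ≫ chi E m j = 0 := by
  by_cases h : m ≤ j
  · rw [chi_of_le E m h, comp_zero]
  · rw [kernel_ι_of_lt E m (show i < m by omega), zero_comp, zero_comp]

/-- The brutal truncation in degrees `≥ m`. -/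
noncomputable def trunc : CochainComplex C ℤ where
  X i := kernel (chi E m i)
  d i j := if h : i + 1 = j then kernel.lift _ _ (cond E m i j h) else 0
  shape i j h := dif_neg h
  d_comp_d' i j k (hij : i + 1 = j) (hjk : j + 1 = k) := by
    rw [dif_pos hij, dif_pos hjk, ← cancel_mono (kernel.ι (chi E m k))]
    simp

/-- The inclusion of the brutal truncation. -/
noncomputable def ι : trunc E m ⟶ E where
  f i := kernel.ι (chi E m i)
  comm' i j (hij : i + 1 = j) := by simp [trunc, hij]

theorem isIso_ι_f {i : ℤ} (h : m ≤ i) : IsIso ((ι E m).f i) := by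
  change IsIso (kernel.ι (chi E m i))
  refine ⟨kernel.lift _ (𝟙 _) (by rw [chi_of_le E m h, comp_zero]), ?_, kernel.lift_ι _ _ _⟩
  exact equalizer.hom_ext ((Category.assoc _ _ _).trans
    ((congrArg _ (kernel.lift_ι _ _ _)).trans
      ((Category.comp_id _).trans (Category.id_comp _).symm)))

theorem isZero_X {i : ℤ} (h : i < m) : IsZero ((trunc E m).X i) :=
  have h0 : IsZero (kernel (chi E m i)) :=
    IsZero.of_mono_eq_zero (kernel.ι (chi E m i)) (kernel_ι_of_lt E m h)
  h0

end Brutal

variable {A : Type u} [Category.{v} A] [Abelian A] [IsGrothendieckAbelian.{v} A]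
  [HasDerivedCategory.{v} A] [HasCoproducts.{v} (DerivedCategory A)]
  {K : DerivedCategory A}

/-- The quotient by the brutal truncation. -/
noncomputable abbrev cut' (P : CochainComplex A ℤ) (m : ℤ) : CochainComplex A ℤ :=
  cokernel (Brutal.ι P m)

theorem isZero_cut'_X (P : CochainComplex A ℤ) (m i : ℤ) (h : m ≤ i) : IsZero ((cut' P m).X i) := by
  haveI := Brutal.isIso_ι_f P m h
  exact (isZero_cokernel_of_epi ((Brutal.ι P m).f i)).of_iso
    (PreservesCokernel.iso (eval A (ComplexShape.up ℤ) i) (Brutal.ι P m))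

theorem exists_trunc (hK : CohDer.IsCompactObject K) (P : CochainComplex A ℤ)
    (x : K ⟶ DerivedCategory.Q.obj P) :
    ∃ (m : ℤ) (x' : K ⟶ DerivedCategory.Q.obj (Brutal.trunc P m)),
      x' ≫ DerivedCategory.Q.map (Brutal.ι P m) = x := by
  classical
  let M : ℕ → CochainComplex A ℤ := fun k => cut' P (-(k : ℤ))
  let π : ∀ k, P ⟶ M k := fun k => cokernel.π _
  let R : ULift.{v} ℕ → CochainComplex A ℤ := fun k => M k.down
  let t : ∀ (i : ℤ) (k : ℕ), P.X i ⟶ (∐ R).X i := fun i k => (π k).f i ≫ (Sigma.ι R ⟨k⟩).f i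
  have ht : ∀ (i : ℤ) (k : ℕ), (-i).toNat ≤ k → t i k = 0 := fun i k hk => by
    have : -(k : ℤ) ≤ i := by omega
    simp [t, (isZero_cut'_X P (-(k : ℤ)) i this).eq_of_tgt ((π k).f i) 0]
  let s : ∀ i : ℤ, P.X i ⟶ (∐ R).X i := fun i => ∑ k ∈ Finset.range (-i).toNat, t i k
  have hs : ∀ (i : ℤ) (N : ℕ), (-i).toNat ≤ N → ∑ k ∈ Finset.range N, t i k = s i := fun i N hN =>
    (Finset.sum_subset (Finset.range_subset_range.2 hN) fun k _ hk =>
      ht i k (not_lt.1 (fun hh => hk (Finset.mem_range.2 hh)))).symm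
  let φ : P ⟶ ∐ R :=
    { f := s
      comm' := fun i j _ => by
        rw [← hs i (max (-i).toNat (-j).toNat) (le_max_left _ _),
          ← hs j (max (-i).toNat (-j).toNat) (le_max_right _ _), Preadditive.sum_comp, Preadditive.comp_sum]
        exact Finset.sum_congr rfl fun k _ => ((π k ≫ Sigma.ι R ⟨k⟩).comm i j) }
  let q : ∀ k : ℕ, ∐ R ⟶ M k := fun k =>
    Sigma.desc fun l => if h : l.down = k then eqToHom (congrArg M h) else 0
  have hq : ∀ k, φ ≫ q k = π k := fun k => by
    ext i
    show s i ≫ (q k).f i = _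
    rw [← hs i (max (-i).toNat (k + 1)) (le_max_left _ _), Preadditive.sum_comp, Finset.sum_eq_single k]
    · show ((π k).f i ≫ (Sigma.ι R ⟨k⟩).f i) ≫ (q k).f i = _
      rw [Category.assoc, ← comp_f, Sigma.ι_desc, dif_pos rfl]
      exact Category.comp_id _
    · intro l _ hl
      show ((π l).f i ≫ (Sigma.ι R ⟨l⟩).f i) ≫ (q k).f i = _
      rw [Category.assoc, ← comp_f, Sigma.ι_desc, dif_neg hl, zero_f, comp_zero]
    · exact fun h => absurd (Finset.mem_range.2 (lt_of_lt_of_le (Nat.lt_succ_self k) (le_max_right _ _))) h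
  obtain ⟨S, hS⟩ := exists_cut hK R (x ≫ DerivedCategory.Q.map φ)
  obtain ⟨k, hk⟩ := Infinite.exists_notMem_finset (S.image ULift.down)
  have h0 : CompactLib.cut R S ≫ q k = 0 := Sigma.hom_ext _ _ fun l => by
    rw [← Category.assoc, CompactLib.ι_cut, comp_zero]
    split_ifs with h
    · exact (Sigma.ι_desc _ l).trans (dif_neg (fun e : l.down = k => hk (e ▸ Finset.mem_image_of_mem _ h)))
    · exact zero_comp
  have hx : x ≫ DerivedCategory.Q.map (π k) = 0 := by
    rw [← hq, Functor.map_comp, ← Category.assoc, ← hS, Category.assoc, ← Functor.map_comp, h0,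
      Functor.map_zero, comp_zero]
  haveI : Mono (Brutal.ι P (-(k : ℤ))) := HomologicalComplex.mono_of_mono_f _ fun i =>
    inferInstanceAs (Mono (kernel.ι (Brutal.chi P _ i)))
  let T := ShortComplex.mk (Brutal.ι P (-(k : ℤ))) (π k) (cokernel.condition _)
  have hT : T.ShortExact :=
    { exact := ShortComplex.exact_of_g_is_cokernel T (cokernelIsCokernel _)
      mono_f := inferInstanceAs (Mono (Brutal.ι P _))
      epi_g := inferInstanceAs (Epi (cokernel.π _)) }
  obtain ⟨x', hx'⟩ := Pretriangulated.Triangle.coyoneda_exact₂ _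
    (DerivedCategory.triangleOfSES_distinguished hT) x hx
  exact ⟨_, x', hx'.symm⟩

end CompactRetractLib
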